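import Groth.Agent.Lib.SymPt15.Fields
import Groth.Agent.Lib.AlgSpDecent.SymPower
import Mathlib.RingTheory.Etale.Field

/-!
# Field valued points lift to etale separated schemes
-/

universe u

set_option backward.isDefEq.respectTransparency.types false

open CategoryTheory CategoryTheory.Limits AlgebraicGeometry AlgSp Topology
open Groth.Agent.AlgSpace Groth.Agent.AlgSpDecent

namespace Groth.Agent.SymPt15

variable {S : Scheme.{u}}

/-- A nonempty scheme etale over a field has a point with values in a finite separable extension, which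
is a monomorphism of schemes. -/
theorem exists_separable_point {K : Type u} [Field K] {P : Scheme.{u}} (s : P ⟶ Spec (CommRingCat.of K))
    [Etale s] [Nonempty P] :
    ∃ (F : Type u) (_ : Field F) (_ : Algebra K F) (_ : FiniteDimensional K F) (_ : Algebra.IsSeparable K F)
      (e : Spec (CommRingCat.of F) ⟶ P),
      e ≫ s = Spec.map (CommRingCat.ofHom (algebraMap K F)) ∧
      ∀ {B : CommRingCat.{u}} (a b : CommRingCat.of F ⟶ B), Spec.map a ≫ e = Spec.map b ≫ e → a = b := by
  obtain ⟨p⟩ := ‹Nonempty P›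
  obtain ⟨O, hO, hpO, -⟩ := exists_isAffineOpen_mem_and_subset (X := P) (x := p) (U := ⊤) trivial
  let ψ := Spec.preimage (hO.fromSpec ≫ s)
  have hψ : Spec.map ψ = hO.fromSpec ≫ s := Spec.map_preimage _
  letI := ψ.hom.toAlgebra
  have : Algebra.Etale K Γ(P, O) := RingHom.etale_algebraMap.1 (HasRingHomProperty.Spec_iff.1
    (show Etale (Spec.map ψ) by rw [hψ]; infer_instance))
  obtain ⟨I, _, Ai, _, _, e, hsep⟩ :=
    (Algebra.FormallyEtale.iff_exists_algEquiv_prod K Γ(P, O)).1 inferInstance
  haveI : Nonempty ↥O.toScheme := ⟨⟨p, hpO⟩⟩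
  haveI : Nontrivial Γ(P, O) := (PrimeSpectrum.nonempty_iff_nontrivial).1 ⟨hO.primeIdealOf ⟨p, hpO⟩⟩
  haveI : Nonempty I := by
    by_contra h
    rw [not_nonempty_iff] at h
    exact not_subsingleton Γ(P, O) e.toEquiv.subsingleton
  obtain ⟨i⟩ := ‹Nonempty I›
  let ε : Γ(P, O) →ₐ[K] Ai i := (Pi.evalAlgHom K Ai i).comp e.toAlgHom
  have hε : Function.Surjective ε := (Function.surjective_eval i).comp e.surjective
  haveI : FiniteDimensional K Γ(P, O) := Algebra.FormallyUnramified.finite_of_free K Γ(P, O)
  haveI : FiniteDimensional K (Ai i) := Module.Finite.of_surjective ε.toLinearMap hε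
  haveI := hsep i
  refine ⟨Ai i, inferInstance, inferInstance, inferInstance, inferInstance,
    Spec.map (CommRingCat.ofHom ε.toRingHom) ≫ hO.fromSpec, ?_, fun {B} a b h => ?_⟩
  · rw [Category.assoc, ← hψ, ← Spec.map_comp]
    refine congrArg Spec.map (CommRingCat.hom_ext (RingHom.ext fun k => ?_))
    exact ε.commutes k
  · rw [← Category.assoc, ← Category.assoc, cancel_mono, ← Spec.map_comp, ← Spec.map_comp] at h
    refine CommRingCat.hom_ext (RingHom.ext fun x => ?_)
    obtain ⟨y, rfl⟩ := hε x
    exact congrArg (fun k : Γ(P, O) ⟶ B => k.hom y) (Spec.map_injective h)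

variable {X : Sp S} {U : Over S} {φ : (yon S).obj U ⟶ X}

/-- A field valued point in the image of an affine etale chart lifts to one of the schemes of unordered
tuples. -/
theorem exists_lift [IsAffine U.left] (hφ : RepWith @Etale φ) (W : ∀ n, DistScheme φ n)
    (V : ℕ → Over S) (v : ∀ n, (yon S).obj (V n) ⟶ X) (q : ∀ n, (W n).obj ⟶ V n)
    (hqv : ∀ n, (yon S).map (q n) ≫ v n = (yon S).map ((W n).π 0) ≫ φ)
    (hq : ∀ (n : ℕ) ⦃T : Over S⦄ (a b : T ⟶ (W n).obj),
      (yon S).map (a ≫ (W n).π 0) ≫ φ = (yon S).map (b ≫ (W n).π 0) ≫ φ →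
      (∀ τ j, ∃ i, τ ∈ agree (a ≫ (W n).π i) (b ≫ (W n).π j)) → a ≫ q n = b ≫ q n)
    {K : Type u} [Field K] (str : Spec (CommRingCat.of K) ⟶ S) (x : (yon S).obj (Over.mk str) ⟶ X)
    (u : ↥U.left) (hu : Points.ofPt φ u = Points.ofPt x (IsLocalRing.closedPoint K)) :
    ∃ (n : ℕ) (g : Over.mk str ⟶ V n), (yon S).map g ≫ v n = x := by
  obtain ⟨P, s, k, sqP⟩ := hφ.1 x
  obtain ⟨k, rfl⟩ := (yon S).map_surjective k
  haveI : Etale s.left := hφ.2 x _ _ sqP
  haveI : Nonempty ↥P.left := by
    obtain ⟨p, -, -⟩ := exists_pt_of_isPullback sqP (x := Points.ofScheme U u)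
      (t := IsLocalRing.closedPoint K) (by rw [← Points.ofPt_eq_map_ofScheme]; exact hu)
    exact ⟨p⟩
  obtain ⟨F, _, _, _, _, e, he, hei⟩ := exists_separable_point (K := K) s.left
  obtain ⟨L, _, _, _, _, n, σ, hσ, hall⟩ := exists_splitting_field K F
  let cm : Spec (CommRingCat.of L) ⟶ Spec (CommRingCat.of K) := Spec.map (CommRingCat.ofHom (algebraMap K L))
  let T : Over S := Over.mk (cm ≫ str)
  let c : T ⟶ Over.mk str := Over.homMk cm rfl
  have hce : Etale c.left := by
    haveI := Algebra.FormallyEtale.of_isSeparable K L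
    haveI : Algebra.FinitePresentation K L := Algebra.FinitePresentation.of_finiteType.1 inferInstance
    have : Algebra.Etale K L := {}
    exact HasRingHomProperty.Spec_iff.2 (RingHom.etale_algebraMap.2 this)
  have hcs : Surjective c.left := ⟨fun z => ⟨IsLocalRing.closedPoint L,
    Subsingleton.elim (α := PrimeSpectrum K) _ _⟩⟩
  let ã : Fin (n + 1) → (T ⟶ P) := fun i => Over.homMk
    (Spec.map (CommRingCat.ofHom (σ i).toRingHom) ≫ e) (by
      rw [← Over.w s, Category.assoc, reassoc_of% he, ← Category.assoc, ← Spec.map_comp]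
      refine congrArg (fun m => Spec.map m ≫ str) (CommRingCat.hom_ext (RingHom.ext fun z => ?_))
      exact (σ i).commutes z)
  have hã : ∀ i, ã i ≫ s = c := fun i => by
    refine Over.OverMorphism.ext ?_
    change (Spec.map (CommRingCat.ofHom (σ i).toRingHom) ≫ e) ≫ s.left = cm
    rw [Category.assoc, he, ← Spec.map_comp]
    refine congrArg Spec.map (CommRingCat.hom_ext (RingHom.ext fun z => ?_))
    exact (σ i).commutes z
  have hax : ∀ i, (yon S).map (ã i ≫ k) ≫ φ = (yon S).map c ≫ x := fun i => by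
    rw [Functor.map_comp, Category.assoc, sqP.w, ← Functor.map_comp_assoc, hã]
  have htup : IsTup φ fun i => ã i ≫ k := fun i => (hax i).trans (hax 0).symm
  have hdist : ∀ τ, DistAt (fun i => ã i ≫ k) τ := fun τ i j hij hag => hij (hσ (AlgHom.ext fun z => ?_))
  swap
  · have heq : ã i ≫ k = ã j ≫ k := eq_of_forall_agree fun τ' => by
      rwa [show τ' = τ from Subsingleton.elim (α := PrimeSpectrum L) _ _]
    have h2 : ã i = ã j := (yon S).map_injective (sqP.hom_ext
      (by rw [← Functor.map_comp, ← Functor.map_comp, heq])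
      (by rw [← Functor.map_comp, ← Functor.map_comp, hã, hã]))
    exact congrArg (fun m : CommRingCat.of F ⟶ CommRingCat.of L => m.hom z)
      (hei _ _ (congrArg CommaMorphism.left h2))
  obtain ⟨g, hg⟩ := (W n).lift _ htup hdist
  have sqT := IsPullback.of_hasPullback c c
  have hcoc : (pullback.fst c c ≫ g) ≫ q n = (pullback.snd c c ≫ g) ≫ q n := by
    refine hq n _ _ ?_ fun τ j => ?_
    · simp only [Category.assoc, hg]
      rw [Functor.map_comp, Category.assoc, hax, Functor.map_comp _ (pullback.snd c c), Category.assoc,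
        hax, ← Functor.map_comp_assoc, ← Functor.map_comp_assoc, pullback.condition]
    · let F' := (pullback c c).left.residueField τ
      let Tp : Over S := Over.mk ((pullback c c).left.fromSpecResidueField τ ≫ (pullback c c).hom)
      let h : Tp ⟶ pullback c c := Over.homMk ((pullback c c).left.fromSpecResidueField τ) rfl
      let m₁ : CommRingCat.of L ⟶ F' := Spec.preimage (h ≫ pullback.fst c c).left
      let m₂ : CommRingCat.of L ⟶ F' := Spec.preimage (h ≫ pullback.snd c c).left
      have hm : CommRingCat.ofHom (algebraMap K L) ≫ m₁ = CommRingCat.ofHom (algebraMap K L) ≫ m₂ := by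
        apply Spec.map_injective
        rw [Spec.map_comp, Spec.map_comp, Spec.map_preimage, Spec.map_preimage]
        exact congrArg CommaMorphism.left (show (h ≫ pullback.fst c c) ≫ c = (h ≫ pullback.snd c c) ≫ c by
          simp only [Category.assoc, pullback.condition])
      letI : Algebra K F' := (m₁.hom.comp (algebraMap K L)).toAlgebra
      let a₁ : L →ₐ[K] F' := { m₁.hom with commutes' := fun z => rfl }
      let a₂ : L →ₐ[K] F' := { m₂.hom with
        commutes' := fun z => (congrArg (fun m : CommRingCat.of K ⟶ F' => m.hom z) hm).symm }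
      obtain ⟨i, hi⟩ := hall F' a₁ a₂ j
      refine ⟨i, ?_⟩
      simp only [Category.assoc, hg]
      have heq : h ≫ pullback.fst c c ≫ ã i ≫ k = h ≫ pullback.snd c c ≫ ã j ≫ k := by
        suffices (h ≫ pullback.fst c c) ≫ ã i = (h ≫ pullback.snd c c) ≫ ã j by
          simpa only [Category.assoc] using congrArg (· ≫ k) this
        refine Over.OverMorphism.ext ?_
        change (h ≫ pullback.fst c c).left ≫ Spec.map (CommRingCat.ofHom (σ i).toRingHom) ≫ e =
          (h ≫ pullback.snd c c).left ≫ Spec.map (CommRingCat.ofHom (σ j).toRingHom) ≫ e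
        rw [← Spec.map_preimage (h ≫ pullback.fst c c).left, ← Spec.map_preimage (h ≫ pullback.snd c c).left,
          ← Category.assoc, ← Category.assoc, ← Spec.map_comp, ← Spec.map_comp]
        refine congrArg (fun m => Spec.map m ≫ e) (CommRingCat.hom_ext (RingHom.ext fun z => ?_))
        exact DFunLike.congr_fun hi z
      have hpt : (yon S).map (pullback.fst c c ≫ ã i ≫ k) ≫ φ = (yon S).map (pullback.snd c c ≫ ã j ≫ k) ≫ φ := by
        rw [Functor.map_comp, Category.assoc, hax, Functor.map_comp _ (pullback.snd c c), Category.assoc, hax,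
          ← Functor.map_comp_assoc, ← Functor.map_comp_assoc, pullback.condition]
      obtain ⟨τ₀, hτ₀⟩ : ∃ τ₀, h.left τ₀ = τ :=
        ⟨IsLocalRing.closedPoint F', Scheme.fromSpecResidueField_apply _ _⟩
      rw [← hτ₀, ← Set.mem_preimage, ← agree_comp hφ hpt h, heq]
      exact agree_refl _ _
  haveI := isLocallySurjective_of_etale (a := (yon S).map c) ((repWith_yon_map_iff _ _).2 hce)
    ((repWith_yon_map_iff _ _).2 hcs)
  haveI : Epi ((yon S).map c) := inferInstance
  obtain ⟨hcof⟩ := nonempty_isColimit_cofork ((yon S).map c) (sqT.map (yon S))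
  obtain ⟨d, hd⟩ := Cofork.IsColimit.desc' hcof ((yon S).map (g ≫ q n)) (by
    rw [← Functor.map_comp, ← Functor.map_comp, ← Category.assoc, hcoc, Category.assoc])
  obtain ⟨g₀, rfl⟩ := (yon S).map_surjective d
  refine ⟨n, g₀, ?_⟩
  rw [← cancel_epi ((yon S).map c), ← Category.assoc]
  change ((yon S).map c ≫ (yon S).map g₀) ≫ v n = _
  rw [show (yon S).map c ≫ (yon S).map g₀ = (yon S).map (g ≫ q n) from hd, Functor.map_comp,
    Category.assoc, hqv, ← Functor.map_comp_assoc, hg, hax]

end Groth.Agent.SymPt15
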