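import Groth.Agent.Lib.SymPt15.Point
import Groth.Agent.Lib.Hens.SmoothLift
import Groth.Agent.Lib.Hens.Local
import Groth.Agent.Lib.Hens.PairOps
import Groth.Agent.Lib.Slice.Global
import Groth.Agent.Lib.AlgSpDescent.SchemeSmooth
import Groth.Agent.Lib.AlgSpace.Coprod
import Mathlib.AlgebraicGeometry.Morphisms.Smooth

/-!
# Lifting points with values in henselian local rings
-/

universe u

set_option backward.isDefEq.respectTransparency.types false

open CategoryTheory CategoryTheory.Limits AlgebraicGeometry AlgSp Topology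
open Groth.Agent.AlgSpace Groth.Agent.AlgSpDecent

namespace Groth.Agent.SymPt15

/-- Smooth schemes over a henselian pair with local total space have enough sections. -/
theorem exists_section_of_smooth {R k : Type u} [CommRing R] [CommRing k] [IsLocalRing k]
    (ρ : R →+* k) (hρ : Function.Surjective ρ) [hh : HenselianRing R (RingHom.ker ρ)]
    {P : Scheme.{u}} (s : P ⟶ Spec (CommRingCat.of R)) [Smooth s] (g₀ : Spec (CommRingCat.of k) ⟶ P)
    (hg₀ : g₀ ≫ s = Spec.map (CommRingCat.ofHom ρ)) :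
    ∃ g : Spec (CommRingCat.of R) ⟶ P, g ≫ s = 𝟙 _ ∧ Spec.map (CommRingCat.ofHom ρ) ≫ g = g₀ := by
  obtain ⟨O, hO, hpO, -⟩ := exists_isAffineOpen_mem_and_subset (X := P)
    (x := g₀ (IsLocalRing.closedPoint k)) (U := ⊤) trivial
  have hr : Set.range g₀ ⊆ Set.range hO.fromSpec := by
    rw [hO.range_fromSpec]
    rintro _ ⟨z, rfl⟩
    exact ((IsLocalRing.specializes_closedPoint z).map g₀.continuous).mem_open O.isOpen hpO
  let l := IsOpenImmersion.lift hO.fromSpec g₀ hr
  have hl : l ≫ hO.fromSpec = g₀ := IsOpenImmersion.lift_fac _ _ _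
  let ψ := Spec.preimage (hO.fromSpec ≫ s)
  have hψ : Spec.map ψ = hO.fromSpec ≫ s := Spec.map_preimage _
  letI := ψ.hom.toAlgebra
  haveI : Algebra.Smooth R Γ(P, O) := RingHom.smooth_algebraMap.1 (HasRingHomProperty.Spec_iff.1
    (show Smooth (Spec.map ψ) by rw [hψ]; infer_instance))
  let e := RingHom.quotientKerEquivOfSurjective hρ
  let σ₀ : Γ(P, O) ⟶ CommRingCat.of k := Spec.preimage l
  have hσ₀ : ψ ≫ σ₀ = CommRingCat.ofHom ρ := by
    apply Spec.map_injective
    rw [Spec.map_comp, Spec.map_preimage, hψ, reassoc_of% hl, hg₀]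
  let σ : Γ(P, O) →ₐ[R] R ⧸ RingHom.ker ρ :=
    { e.symm.toRingHom.comp σ₀.hom with
      commutes' := fun r => by
        show e.symm (σ₀.hom (ψ.hom r)) = Ideal.Quotient.mk _ r
        rw [show σ₀.hom (ψ.hom r) = ρ r from congrArg (fun m : CommRingCat.of R ⟶ CommRingCat.of k => m.hom r) hσ₀]
        exact e.symm_apply_eq.2 rfl }
  obtain ⟨τ, hτ⟩ := Hens.exists_smooth_lift_of_henselianRing hh σ
  refine ⟨Spec.map (CommRingCat.ofHom τ.toRingHom) ≫ hO.fromSpec, ?_, ?_⟩
  · rw [Category.assoc, ← hψ, ← Spec.map_comp, ← Spec.map_id]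
    exact congrArg Spec.map (CommRingCat.hom_ext (RingHom.ext fun r => τ.commutes r))
  · rw [← Category.assoc, ← Spec.map_comp, ← hl]
    refine congrArg (· ≫ hO.fromSpec) ?_
    rw [← Spec.map_preimage l]
    refine congrArg Spec.map (CommRingCat.hom_ext (RingHom.ext fun z => ?_))
    have h := e.symm_apply_eq.1 (DFunLike.congr_fun hτ z).symm
    exact h.symm

variable {S : Scheme.{u}} {X : Sp S}

/-- Points with values in a henselian local ring lift through smooth representable maps from schemes as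
soon as the residual point does. -/
theorem exists_lift_of_henselian {R k : Type u} [CommRing R] [CommRing k] [IsLocalRing k] (ρ : R →+* k)
    (hρ : Function.Surjective ρ) [hh : HenselianRing R (RingHom.ker ρ)]
    (str : Spec (CommRingCat.of R) ⟶ S) {Z : Over S} {φ : (yon S).obj Z ⟶ X} (hφ : RepWith @Smooth φ)
    (x : (yon S).obj (Over.mk str) ⟶ X) {T₀ : Over S} (e₀ : T₀.left ≅ Spec (CommRingCat.of k))
    (i : T₀ ⟶ Over.mk str) (hi : i.left = e₀.hom ≫ Spec.map (CommRingCat.ofHom ρ)) (g₀ : T₀ ⟶ Z)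
    (hg₀ : (yon S).map g₀ ≫ φ = (yon S).map i ≫ x) :
    ∃ g : Over.mk str ⟶ Z, (yon S).map g ≫ φ = x ∧ i ≫ g = g₀ := by
  obtain ⟨P, s, k', sq⟩ := hφ.1 x
  obtain ⟨k', rfl⟩ := (yon S).map_surjective k'
  haveI : Smooth s.left := hφ.2 x _ _ sq
  obtain ⟨p₀, hp₀⟩ := (yon S).map_surjective (sq.lift ((yon S).map g₀) ((yon S).map i) hg₀)
  have hp1 : p₀ ≫ k' = g₀ := (yon S).map_injective (by rw [Functor.map_comp, hp₀, sq.lift_fst])
  have hp2 : p₀ ≫ s = i := (yon S).map_injective (by rw [Functor.map_comp, hp₀, sq.lift_snd])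
  obtain ⟨h, h1, h2⟩ := exists_section_of_smooth ρ hρ (P := P.left) s.left (e₀.inv ≫ p₀.left) (by
    rw [Category.assoc, ← Over.comp_left, hp2, hi, Iso.inv_hom_id_assoc])
  let q : Over.mk str ⟶ P := Over.homMk h (by rw [← Over.w s, reassoc_of% h1])
  have hqs : q ≫ s = 𝟙 _ := Over.OverMorphism.ext h1
  have hiq : i ≫ q = p₀ := Over.OverMorphism.ext (by
    change i.left ≫ h = p₀.left
    rw [hi, Category.assoc, h2, Iso.hom_inv_id_assoc])
  refine ⟨q ≫ k', ?_, by rw [← Category.assoc, hiq, hp1]⟩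
  rw [Functor.map_comp, Category.assoc, sq.w, ← Functor.map_comp_assoc, hqs, (yon S).map_id, Category.id_comp]

/-- A family of separated etale charts to which all field valued points lift. -/
theorem exists_separated_family (hX : IsAlgSpace X) :
    ∃ (ι : Type u) (V : ι → Over S) (v : ∀ i, (yon S).obj (V i) ⟶ X),
      (∀ i, (V i).left.IsSeparated) ∧ (∀ i, RepWith @Etale (v i)) ∧
      ∀ (K : Type u) [Field K] (str : Spec (CommRingCat.of K) ⟶ S) (x : (yon S).obj (Over.mk str) ⟶ X),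
        ∃ (i : ι) (g : Over.mk str ⟶ V i), (yon S).map g ≫ v i = x := by
  obtain ⟨A, p, hpe, hps⟩ := hX.atlas
  let κ := {O : A.left.Opens // IsAffineOpen O}
  let U : κ → Over S := fun O => Over.mk (O.1.ι ≫ A.hom)
  haveI : ∀ O : κ, IsAffine (U O).left := fun O => O.2
  let φ : ∀ O : κ, (yon S).obj (U O) ⟶ X := fun O => (yon S).map (Over.homMk O.1.ι rfl) ≫ p
  have hφ : ∀ O, RepWith @Etale (φ O) := fun O => repWith_etale_restrict hpe O.1
  choose V v hsep het _ _ _ W q hqv hq using fun i : κ × ℕ => exists_symPower_quot hX (hφ i.1) i.2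
  refine ⟨κ × ℕ, V, v, hsep, het, fun K _ str x => ?_⟩
  obtain ⟨a, ha⟩ := surjective_ofPt hps (Points.ofPt x (IsLocalRing.closedPoint K))
  obtain ⟨O, hO, haO, -⟩ := exists_isAffineOpen_mem_and_subset (X := A.left) (x := a) (U := ⊤) trivial
  obtain ⟨n, g, hg⟩ := exists_lift (hφ ⟨O, hO⟩) (fun n => W (⟨O, hO⟩, n)) (fun n => V (⟨O, hO⟩, n))
    (fun n => v (⟨O, hO⟩, n)) (fun n => q (⟨O, hO⟩, n)) (fun n => hqv (⟨O, hO⟩, n))
    (fun n => hq (⟨O, hO⟩, n)) str x ⟨a, haO⟩ ((ofPt_map_comp _ p _).trans ha)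
  exact ⟨_, g, hg⟩

/-- A field valued point lifts to an affine etale chart. -/
theorem exists_affine_lift (hX : IsAlgSpace X) (K : Type u) [Field K] (str : Spec (CommRingCat.of K) ⟶ S)
    (x : (yon S).obj (Over.mk str) ⟶ X) :
    ∃ (Z : Over S) (φ : (yon S).obj Z ⟶ X) (g : Over.mk str ⟶ Z),
      IsAffine Z.left ∧ RepWith @Etale φ ∧ (yon S).map g ≫ φ = x := by
  obtain ⟨ι, V, v, -, het, hl⟩ := exists_separated_family hX
  obtain ⟨i, g, hg⟩ := hl K str x
  obtain ⟨O, hO, hgO, -⟩ := exists_isAffineOpen_mem_and_subset (X := (V i).left)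
    (x := g.left (IsLocalRing.closedPoint K)) (U := ⊤) trivial
  have hr : Set.range g.left ⊆ Set.range O.ι := by
    rw [O.range_ι]
    rintro _ ⟨z, rfl⟩
    rwa [show z = IsLocalRing.closedPoint K from Subsingleton.elim (α := PrimeSpectrum K) _ _]
  let Z : Over S := Over.mk (O.ι ≫ (V i).hom)
  let g' : Over.mk str ⟶ Z := Over.homMk (IsOpenImmersion.lift O.ι g.left hr) (by
    change _ ≫ O.ι ≫ (V i).hom = _
    rw [IsOpenImmersion.lift_fac_assoc, Over.w g])
  refine ⟨Z, (yon S).map (Over.homMk O.ι rfl : Z ⟶ V i) ≫ v i, g', hO, repWith_etale_restrict (het i) O, ?_⟩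
  rw [← Functor.map_comp_assoc, show g' ≫ (Over.homMk O.ι rfl : Z ⟶ V i) = g from
    Over.OverMorphism.ext (IsOpenImmersion.lift_fac _ _ _), hg]

/-- The kernel of the residue map of a henselian local ring is henselian. -/
theorem henselianRing_ker_residue (R : Type u) [CommRing R] [HenselianLocalRing R] :
    HenselianRing R (RingHom.ker (IsLocalRing.residue R)) := by
  rw [IsLocalRing.ker_residue]
  infer_instance

end Groth.Agent.SymPt15

namespace Groth.Agent.SymPt15

variable {S : Scheme.{u}} {X : Sp S}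

/-- Points with values in quotients of a henselian local ring lift to any etale chart to which the residual
points lift. -/
theorem exists_lift_quotient {R : Type u} [CommRing R] [HenselianLocalRing R]
    (str : Spec (CommRingCat.of R) ⟶ S) {Z : Over S} {φ : (yon S).obj Z ⟶ X} (hφ : RepWith @Etale φ)
    (hres : ∀ x : (yon S).obj (Over.mk (Spec.map (CommRingCat.ofHom (IsLocalRing.residue R)) ≫ str)) ⟶ X,
      ∃ g, (yon S).map g ≫ φ = x)
    (a : Ideal R)
    (x : (yon S).obj (Over.mk (Spec.map (CommRingCat.ofHom (Ideal.Quotient.mk a)) ≫ str)) ⟶ X) :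
    ∃ g : Over.mk (Spec.map (CommRingCat.ofHom (Ideal.Quotient.mk a)) ≫ str) ⟶ Z,
      (yon S).map g ≫ φ = x := by
  by_cases ha : a = ⊤
  · haveI : Subsingleton (R ⧸ a) := Ideal.Quotient.subsingleton_iff.2 ha
    haveI : IsEmpty ↥(Over.mk (Spec.map (CommRingCat.ofHom (Ideal.Quotient.mk a)) ≫ str)).left :=
      inferInstanceAs (IsEmpty (PrimeSpectrum (R ⧸ a)))
    obtain ⟨g₀⟩ := exists_hom_of_isEmpty
      (T := Over.mk (Spec.map (CommRingCat.ofHom (Ideal.Quotient.mk a)) ≫ str)) ((yon S).obj Z)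
    obtain ⟨g, rfl⟩ := (yon S).map_surjective g₀
    exact ⟨g, hom_ext_of_isEmpty _ _⟩
  haveI : Nontrivial (R ⧸ a) := Ideal.Quotient.nontrivial_iff.2 ha
  haveI : IsLocalRing (R ⧸ a) := IsLocalRing.of_surjective' _ Ideal.Quotient.mk_surjective
  haveI : HenselianLocalRing (R ⧸ a) := Hens.henselianLocalRing_of_isIntegral R (R ⧸ a)
  let ρ : R ⧸ a →+* IsLocalRing.ResidueField R := Ideal.Quotient.lift a (IsLocalRing.residue R) fun r hr =>
    Ideal.Quotient.eq_zero_iff_mem.2 (IsLocalRing.le_maximalIdeal ha hr)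
  have hρ : Function.Surjective ρ := fun z => by
    obtain ⟨r, rfl⟩ := IsLocalRing.residue_surjective z
    exact ⟨Ideal.Quotient.mk a r, rfl⟩
  haveI := RingHom.ker_isMaximal_of_surjective ρ hρ
  haveI : HenselianRing (R ⧸ a) (RingHom.ker ρ) := by
    rw [IsLocalRing.eq_maximalIdeal ‹(RingHom.ker ρ).IsMaximal›]
    infer_instance
  let i : Over.mk (Spec.map (CommRingCat.ofHom (IsLocalRing.residue R)) ≫ str) ⟶
      Over.mk (Spec.map (CommRingCat.ofHom (Ideal.Quotient.mk a)) ≫ str) :=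
    Over.homMk (Spec.map (CommRingCat.ofHom ρ)) (by
      change _ ≫ _ ≫ str = _ ≫ str
      rw [← Category.assoc, ← Spec.map_comp]
      rfl)
  obtain ⟨g₀, hg₀⟩ := hres ((yon S).map i ≫ x)
  obtain ⟨g, hg, -⟩ := exists_lift_of_henselian ρ hρ _ (repWith_mono AlgSpDescent.etale_le_smooth hφ) x
    (Iso.refl _) i (Category.id_comp _).symm g₀ hg₀
  exact ⟨g, hg⟩

end Groth.Agent.SymPt15

namespace Groth.Agent.SymPt15

variable {S : Scheme.{u}} {X : Sp S}

/-- The disjoint union of a small family of etale charts. -/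
theorem exists_scheme_sigma_chart {ι : Type u} (V : ι → Over S) (v : ∀ i, (yon S).obj (V i) ⟶ X)
    (hv : ∀ i, RepWith @Etale (v i)) (hX : IsAlgSpace X) :
    ∃ (Z : Over S) (j : ∀ i, V i ⟶ Z) (p : (yon S).obj Z ⟶ X),
      (∀ i, (yon S).map (j i) ≫ p = v i) ∧ ((∀ i, (V i).left.IsSeparated) → IsSeparated Z.hom) ∧
      (Finite ι → (∀ i, IsAffine (V i).left) → IsAffine Z.left) ∧ RepWith @Etale p := by
  let Z : Over S := Over.mk (Sigma.desc fun i => (V i).hom)
  let j : ∀ i, V i ⟶ Z := fun i => Over.homMk (Sigma.ι (fun i => (V i).left) i) (Sigma.ι_desc _ _)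
  obtain ⟨p, hp, -⟩ := existsUnique_glue (T := Z) j
    (fun i => inferInstanceAs (IsOpenImmersion (Sigma.ι (fun i => (V i).left) i)))
    (fun x => by
      obtain ⟨i, y, hy⟩ := (sigmaOpenCover fun i => (V i).left).exists_eq x
      exact ⟨i, y, hy⟩)
    v (fun k l W a b hab => by
      by_cases hkl : k = l
      · subst hkl
        have hm : Mono (j k) := (Over.forget S).mono_of_mono_map
          (inferInstanceAs (Mono (Sigma.ι (fun i => (V i).left) k)))
        rw [(cancel_mono (j k)).1 hab]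
      · have : IsEmpty ↥W.left := isEmpty_of_commSq_sigmaι_of_ne
          (g := fun i => (V i).left) (a := a.left) (b := b.left)
          ⟨congrArg CommaMorphism.left hab⟩ hkl
        exact hom_ext_of_isEmpty _ _)
  refine ⟨Z, j, p, hp, fun hsep => ?_, fun _ _ => inferInstanceAs (IsAffine (∐ fun i => (V i).left)),
    repWith_of_source_opens (hX.representable_from_yon p)
    (fun i => (Sigma.ι (fun i => (V i).left) i).opensRange) ?_ fun i => ?_⟩
  · haveI : ∀ i, IsSeparated (V i).hom := fun i => by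
      haveI := hsep i
      exact IsSeparated.of_comp (V i).hom (terminal.from S)
    exact Slice.isSeparated_sigmaDesc _ _
  · intro x
    obtain ⟨i, y, hy⟩ := (sigmaOpenCover fun i => (V i).left).exists_eq x
    exact ⟨i, y, hy⟩
  · let σ := Sigma.ι (fun i => (V i).left) i
    let E : Over.mk (σ.opensRange.ι ≫ Z.hom) ⟶ V i := Over.homMk σ.isoOpensRange.inv (by
      change σ.isoOpensRange.inv ≫ (V i).hom = _
      rw [← Over.w (j i)]
      change σ.isoOpensRange.inv ≫ σ ≫ Z.hom = _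
      rw [Scheme.Hom.isoOpensRange_inv_comp_assoc]; rfl)
    have hE : (overArrow σ.opensRange.ι : _ ⟶ Z) = E ≫ j i :=
      Over.OverMorphism.ext (Scheme.Hom.isoOpensRange_inv_comp σ).symm
    rw [hE, Functor.map_comp, Category.assoc, hp]
    exact repWith_comp ((repWith_yon_map_iff _ _).2 (inferInstanceAs (Etale σ.isoOpensRange.inv))) (hv i)

end Groth.Agent.SymPt15
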