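import Mathlib.FieldTheory.IsSepClosed
import Mathlib.FieldTheory.Normal.Closure
import Mathlib.FieldTheory.PrimitiveElement
import Mathlib.LinearAlgebra.FreeModule.Finite.Matrix

/-!
# All embeddings of a finite separable extension
-/

universe u

namespace Groth.Agent.SymPt15

/-- A finite separable extension `L` containing all conjugates of a finite separable extension `F`: the
composites with any embedding of `L` in a field are all embeddings of `F`. -/
theorem exists_splitting_field (K F : Type u) [Field K] [Field F] [Algebra K F] [FiniteDimensional K F]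
    [Algebra.IsSeparable K F] :
    ∃ (L : Type u) (_ : Field L) (_ : Algebra K L) (_ : FiniteDimensional K L) (_ : Algebra.IsSeparable K L)
      (n : ℕ) (σ : Fin (n + 1) → (F →ₐ[K] L)), Function.Injective σ ∧
      ∀ (F' : Type u) [Field F'] [Algebra K F'] (a b : L →ₐ[K] F') (j : Fin (n + 1)),
        ∃ i, a.comp (σ i) = b.comp (σ j) := by
  let Ω := SeparableClosure K
  let L := IntermediateField.normalClosure K F Ω
  have hcard : Nat.card (F →ₐ[K] ↥L) = Module.finrank K F := by
    rw [Nat.card_congr (normalClosure.algHomEquiv K F Ω)]
    exact AlgHom.natCard_of_splits K F Ω fun x => IsSepClosed.splits_codomain _ (Algebra.IsSeparable.isSeparable K x)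
  have hfin : Finite (F →ₐ[K] ↥L) := inferInstance
  obtain ⟨n, hn⟩ : ∃ n, Module.finrank K F = n + 1 :=
    Nat.exists_eq_succ_of_ne_zero Module.finrank_pos.ne'
  let σ : Fin (n + 1) ≃ (F →ₐ[K] ↥L) := (Finite.equivFinOfCardEq (hcard.trans hn)).symm
  have : IsGalois K Ω := inferInstance
  refine ⟨↥L, inferInstance, inferInstance, inferInstance, inferInstance, n, σ, σ.injective, ?_⟩
  intro F' _ _ a b j
  have ha : Function.Injective fun i => a.comp (σ i) := fun i i' h =>
    σ.injective (AlgHom.ext fun x => (a : ↥L →+* F').injective (DFunLike.congr_fun h x))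
  have : Finite (F →ₐ[K] F') := inferInstance
  have hb := ha.bijective_of_nat_card_le (by
    rw [Nat.card_eq_fintype_card (α := Fin (n + 1)), Fintype.card_fin, ← hn]
    exact card_algHom_le_finrank K F F')
  exact hb.2 (b.comp (σ j))

end Groth.Agent.SymPt15
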